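import Cfsg.Agent.HZ.L.Iso.A
import Cfsg.Agent.HZ.L.Ind

/-!
# HZ/L, the isometry (helper4)

`boxIso` : `BoxIso D` from the boxes `Sb`, `Chf`, `BR`.
-/

set_option autoImplicit false
set_option linter.unusedSectionVars false

namespace Cfsg.Agent.HZ.L.Iso

open Cfsg Cfsg.Agent.DL Cfsg.Agent.DL.PP Cfsg.Agent.DL.Uni Cfsg.Agent.DL.Asm Cfsg.Agent.Nodes.Reps Matrix
  Cfsg.Agent.KZ.Lie Cfsg.Agent.HZ.Gen Cfsg.Agent.ODD.Red Cfsg.Agent.Characters.Core Cfsg.Agent.Blocks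
  Cfsg.Agent.Characters Cfsg.Agent.H650 Cfsg.Agent.RL Cfsg.Agent.DL.Mk

section Part

open OddOrderCharacters

variable {H : Type*} [Group H] [Fintype H] {φ ψ : H → ℂ} {S : Set (IrrCharacter H)}

open Classical in
theorem bp_inner (hψ : IsIrrCharacter H ψ) : classInner (blockPart S φ) ψ = if ⟨ψ, hψ⟩ ∈ S then classInner φ ψ else 0 :=
  classInner_blockPart S φ ⟨ψ, hψ⟩

theorem bp_ne (hψ : IsIrrCharacter H ψ) : classInner (blockPart S φ) ψ ≠ 0 ↔ ⟨ψ, hψ⟩ ∈ S ∧ classInner φ ψ ≠ 0 := by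
  classical
  rw [bp_inner hψ, ite_ne_right_iff]

theorem bp_gen (hφ : IsGeneralizedCharacter H φ) : IsGeneralizedCharacter H (blockPart S φ) :=
  VChar.gen_of_inner_int (isClassFunction_blockPart S φ) fun ψ hψ => by
    rw [bp_inner hψ]
    split_ifs
    · exact VChar.gen_inner hφ (VChar.gen_of_irr hψ)
    · exact ⟨0, Int.cast_zero.symm⟩

theorem bp_self : classInner (blockPart S φ) φ = classInner (blockPart S φ) (blockPart S φ) := by
  rw [← sub_eq_zero, ← classInner_sub_right]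
  by_contra h
  obtain ⟨ψ, hψ, h1, h2⟩ := exists_common (isClassFunction_blockPart S φ) h
  refine h2 (VChar.classInner_comm_eq_zero ?_)
  rw [classInner_sub_left, bp_inner hψ, if_pos ((bp_ne hψ).1 h1).1, sub_self]

theorem bp_le : (classInner (blockPart S φ) (blockPart S φ)).re ≤ (classInner φ φ).re := by
  have h := VChar.classInner_self_re_nonneg (φ - blockPart S φ)
  rw [classInner_sub_left, classInner_sub_right, classInner_sub_right, ← classInner_conj_symm (blockPart S φ) φ, bp_self] at h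
  simpa using h

theorem bp_mul {a : H} (h : ∀ ψ, IsIrrCharacter H ψ → classInner φ ψ ≠ 0 → ∀ x, ψ (a * x) = ψ x) (x : H) :
    blockPart S φ (a * x) = blockPart S φ x := finsum_congr fun ψ => finsum_congr fun _ => by
  rw [Subsingleton.elim (Fintype.ofFinite H) ‹_›]
  by_cases h0 : classInner φ (ψ : H → ℂ) = 0
  · rw [h0, zero_mul, zero_mul]
  · rw [h ψ ψ.2 h0]

theorem bp_fix {σ : ℂ ≃+* ℂ} (hσ : Fix σ φ) (h : ∀ ψ ψ' : IrrCharacter H, (ψ : H → ℂ) = (fun x => σ ((ψ' : H → ℂ) x)) →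
    classInner φ ψ ≠ 0 → classInner φ ψ' ≠ 0 → (ψ ∈ S ↔ ψ' ∈ S)) : Fix σ (blockPart S φ) := by
  classical
  refine congrFun (VChar.eq_of_inner_irr (fun x y => congrArg σ (isClassFunction_blockPart S φ x y))
    (isClassFunction_blockPart S φ) fun ψ hψ => ?_)
  have h1 := GaloisIrr.isIrr_map σ.symm hψ
  have h2 : ψ = fun x => σ (σ.symm (ψ x)) := funext fun x => (σ.apply_symm_apply _).symm
  have h3 := GaloisIrr.classInner_map σ (χ := φ) (isIrr_isCharacter h1)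
  have h4 := GaloisIrr.classInner_map σ (χ := blockPart S φ) (isIrr_isCharacter h1)
  rw [← h2] at h3 h4
  rw [funext hσ] at h3
  rw [h4, bp_inner h1, bp_inner hψ, apply_ite σ, ← h3, map_zero]
  by_cases h0 : classInner φ ψ = 0
  · rw [h0, ite_self, ite_self]
  · exact if_congr (h ⟨ψ, hψ⟩ ⟨_, h1⟩ h2 h0 fun e => h0 (by rw [h3, e, map_zero])).symm rfl rfl

end Part

theorem RV_map' {Y : Type} [Group Y] {F α : MulAut Y} {G G' T T' V V' : Subgroup Y} (hF : ∀ y, α (F y) = F (α y))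
    (hG : ∀ y, α y ∈ G ↔ y ∈ G') (hT : ∀ y, α y ∈ T ↔ y ∈ T') (hV : ∀ y, α y ∈ V ↔ y ∈ V') (f : Y → ℂ) (g : Y) :
    RV F G' T' V' (fun y => f (α y)) g = RV F G T V f (α g) := by
  have h1 : ∀ m y, (F ^ m) (α y) = α ((F ^ m) y) := fun m y => by
    induction m with
    | zero => rfl
    | succ m ih => rw [pow_succ_apply, pow_succ_apply, ih, hF]
  have h2 : ∀ t, CF.lam F G' V' g t = CF.lam F G V (α g) (α t) := fun t => congrArg CF.glef (funext fun m =>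
    congrArg Nat.cast (Nat.card_congr (α.toEquiv.subtypeEquiv fun x => by
      simp only [CF.mem_pts, MulEquiv.toEquiv_eq_coe, EquivLike.coe_coe, MulEquiv.coe_toMonoidHom, SetLike.mem_coe, hG,
        h1, ← hF, ← map_inv, ← map_mul, hV, EmbeddingLike.apply_eq_iff_eq])))
  let e : ↥(T' ⊓ GF F G') ≃ ↥(T ⊓ GF F G) := α.toEquiv.subtypeEquiv fun x => by
    simp only [Subgroup.mem_inf, mem_GF, MulEquiv.toEquiv_eq_coe, EquivLike.coe_coe, hT, hG, ← hF,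
      EmbeddingLike.apply_eq_iff_eq]
  rw [CF.ind_apply, CF.ind_apply, Nat.card_congr e, ← finsum_comp_equiv e]
  simp only [h2]
  rfl

variable {p : ℕ} [Fact p.Prime] {k : Type} [Field k] [CharP k p] [IsAlgClosed k] {Y : Type} [Group Y] {N : Type}
  [Fintype N] [DecidableEq N] {ρ : Y →* GL N k} {F : MulAut Y} {G C C' : Subgroup Y} {D : Datum p ρ F G}
  {j : ℕ} {B : Mat D.R} {v w : D.W} {c c' : Lbl D} {lam : Vec D.R} {L : LS} {f : Fr D}
  {r : ℕ} {P : Subgroup ↥(GF F G)} {s : Sb D} {h y y' : Y} {θ : Y → ℂ} {d : ℕ} {ζ : kˣ}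

/-- conjugation by a fixed point -/
def cjE (hF : F h = h) (hC : cj h C = C') : GF F C ≃* GF F C' where
  toFun m := ⟨h * m * h⁻¹, hC ▸ conj_mem_cj.2 m.2.1, (conj_fixed hF m).trans (congrArg (h * · * h⁻¹) m.2.2)⟩
  invFun m := ⟨h⁻¹ * m * h, mem_cj.1 (hC ▸ m.2.1), (mem_GF.2 ⟨trivial, by
    rw [map_mul, map_mul, map_inv, hF, (mem_GF.1 m.2).2]⟩ : _ ∈ GF F ⊤).2⟩
  left_inv m := Subtype.ext (by simp [mul_assoc])
  right_inv m := Subtype.ext (by simp [mul_assoc])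
  map_mul' a b := Subtype.ext (by simp [mul_assoc])

/-- **transport of a label** -/
theorem has_cj {X : Datum p ρ F C} {X' : Datum p ρ F C'} [Fintype (GF F C)] [Fintype (GF F C')] (H : Ov D X) (H' : Ov D X')
    (hh : h ∈ GF F G) (hC : cj h C = C') (f : Fr X) (f' : Fr X') {ψ : GF F C' → ℂ} {u : X.W} {c : Lbl X}
    (hc : Has f (ψ ∘ cjE hh.2 hC) u c) : ∃ u' c' θ, ∃ z ∈ C, ∃ z' ∈ C', Has f' ψ u' c' ∧
      Lab X f.d f.ζ z (fun t => θ (h * t * h⁻¹)) c ∧ Lab X' f'.d f'.ζ z' θ c' ∧ cj h (cj z X.T) = cj z' X'.T := by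
  obtain ⟨h1, h2⟩ := th_spec f hc.fx
  have h3 := pair_Vof (Tw_mem u)
  have h4 := (hC ▸ (LP.of_pair H h3).cj hh).pair H' ((sys' D).conjA h hh _ (H.tori_eq.le (Tw_mem u)).1)
  obtain ⟨z', hz, u', hu, e⟩ := exists_y h4.mem_tori
  have h5 : (fun t => th f u c (h⁻¹ * (h * t * h⁻¹) * h)) = th f u c := funext fun t => by simp [mul_assoc]
  obtain ⟨c', h6⟩ := exists_lab f'.L f'.hζ hz hu (θ := fun t => th f u c (h⁻¹ * t * h)) ⟨by simpa using h1.one, fun a ha b hb => by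
    rw [← h1.mul _ ⟨mem_cj.1 (e.ge ha.1), ((cjE hh.2 hC).symm ⟨a, ha.2⟩).2⟩ _ ⟨mem_cj.1 (e.ge hb.1), ((cjE hh.2 hC).symm ⟨b, hb.2⟩).2⟩]
    simp [mul_assoc]⟩
  refine ⟨u', c', _, _, yw_mem X u, z', hz, ?_, h5.symm ▸ h2, h6, e⟩
  rw [Has, ← Clifford.classInner_comp_mulEquiv (cjE hh.2 hC), show RW f' u' c' ∘ _ = RW f u c from funext fun g => ?_]
  · exact hc
  rw [Function.comp_apply, ← R_eq_RW f' hz hu h6, ← e, R_eq' h4 _ _ (cjE hh.2 hC g).2]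
  exact (RV_map' (α := MulAut.conj h) (fun y => (conj_fixed hh.2 y).symm) (fun _ => hC ▸ conj_mem_cj) (fun _ => conj_mem_cj)
    (fun _ => conj_mem_cj) _ g).symm.trans (congrArg (RV F C _ _ · g) h5)

theorem rel_of_lab (h1 : Lab D d ζ y (fun t => θ (h * t * h⁻¹)) c) (h2 : Lab D d ζ y' θ c') (hF : F h = h)
    (hm : D.Rp v (y'⁻¹ * h * y)) : Rel D v c c' := fun x => Units.ext (by
  rw [← h1, ← h2, ← mon_coch, ← D.conj_τ hm]
  refine congrArg θ (Eq.trans ?_ (nrm_cj hF _ _))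
  congr 1
  group)

theorem lab_sub (h : Lab s.E d ζ y θ c) : Lab D d ζ (y * s.y) θ c := fun x => by
  rw [← h, show s.E.τ _ = s.y * D.τ _ * s.y⁻¹ from rfl]
  congr 2
  group

theorem ov_sub (s : Sb D) : Ov D s.E := (Ov.conj s.hy s.hF).trans (Ov.sub s.hZ s.hg rfl)

theorem mem_K (hm : D.Rp v y) (h : D.Wm v ∈ WW (rts s.E)) : s.y * y * s.y⁻¹ ∈ s.K := by
  obtain ⟨u, e⟩ := s.mem_WW.1 h
  obtain rfl := D.Wm_injective e
  obtain ⟨m, h1, -⟩ := s.E.exists_rp u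
  exact (mul_mem_cancel_left (inv_mem h1.mem_G)).1 (s.E.T_le_G
    (((D.conj s.hy s.hF).rp_of_sub s.hZ s.hg rfl h1).unique ((D.conj_rp_iff s.hy s.hF).2 hm)))

theorem pow_of_fx (f : Fr D) (h : Fx D w c) : c ^ (p ^ f.e - 1) = 1 := funext fun i => by
  have h3 := h.pow f.L (Pi.single i 1)
  rw [chr_single] at h3
  rw [Pi.pow_apply, pow_sub _ (Nat.one_le_pow _ _ (Fact.out : p.Prime).pos), h3, pow_one, mul_inv_cancel, Pi.one_apply]

theorem cen_sub (hs : s.For r P) {Q : Subgroup (GF F s.K)} {s' : Sb s.E} (hs' : s'.For r Q) (h : P ≤ Q.map s.ι) :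
    s'.K = G ⊓ Subgroup.centralizer ((Q.map s.ι).map (GF F G).subtype : Set Y) := by
  rw [hs'.cen, Subgroup.map_map]
  refine le_antisymm (inf_le_inf_right _ s.K_le) (le_inf (hs.cen.ge.trans' (inf_le_inf_left _ (Subgroup.centralizer_le ?_)))
    inf_le_right)
  rw [← Subgroup.map_map]
  exact Subgroup.map_mono h

section

variable [Fintype ↥(GF F G)] [Fintype ↥(GF F s.K)] [Fact r.Prime] {g : ↥(GF F G) → ℂ}

/-- a constituent of the restriction has a related label -/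
theorem br_gen (hB : BoxBR D) (o : OKat D L B) (hq : D.QS) (hp : r ≠ p) (hs : s.For r P) {m : ℕ} (hg : Sm r m g)
    (hb : bd (nb D) (m + Nat.card D.W) < r)
    (hl : ∀ χ, IsIrrCharacter _ χ → classInner g χ ≠ 0 → ∀ w c', Has f χ w c' → L.rel (rts D) c c') {ψ : ↥(GF F s.K) → ℂ}
    (hψ : IsIrrCharacter _ ψ) (hi : classInner (s.rs r P g) ψ ≠ 0) : ∃ u c', Has (s.fr f) ψ u c' ∧ L.rel (rts D) c c' := by
  obtain ⟨M, hM⟩ := ExistsModular.exists_isPModular (Fact.out : r.Prime)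
  obtain ⟨χ, h1, h2, h3⟩ := hB hq f r P s hp hs m g hg hb M hM ψ hψ hi
  have h4 := h3 {x | L.rel (rts D) c x} fun v x y e hx => o.trans _ _ _ hx (o.cj v x y e)
  by_contra h5
  rw [aL_eq_one (Λ := {x | L.rel (rts D) c x}) h1 (hl χ h1 h2),
    aL_eq_zero (D := s.E) (Λ := {x | L.rel (rts D) c x}) fun u c' e e' => h5 ⟨u, c', e, e'⟩, sub_zero] at h4
  exact LocalRing.not_memLocalIdeal_one hM h4

/-- **orthogonality outside `K`** -/
theorem ort (hS : BoxSb s.E) (hB : BoxBR s.E) (ok : OK p L) (h : St D j B) (ha : L.adm (rts D) B) (ih : OneLt p L (nr D))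
    (hu : Hu D r) (hs : s.For r P) (e1 : rts s.E = lev (rts D) lam) (e2 : lev (rts D) lam ≠ rts D) (ht : Ct p L (rts D) lam c)
    {g : ↥(GF F s.K) → ℂ} (hg : Sm r (sz D) g)
    (hl : ∀ χ, IsIrrCharacter _ χ → classInner g χ ≠ 0 → ∀ w c', Has (s.fr f) χ w c' → L.rel (rts s.E) c c') :
    Ort r P s.ι g := fun x hx Q₁ Q₂ hQ₁ hQ₂ h1 h2 h3 => by
  have hE := h.sub hs.qs
  have o := ok s.E j _ hE ((ok D j B h ha).adm_sub h hs.qs e1)
  obtain ⟨s₁, -, hs₁, -⟩ := (hS hs.qs).grp r hu.prime hu.ne (hu.sub s).not_dvd Q₁ hQ₁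
  obtain ⟨s₂, lam₂, hs₂, e3⟩ := (hS hs.qs).grp r hu.prime hu.ne (hu.sub s).not_dvd Q₂ hQ₂
  have := D.amb.finite_GF s₁.K
  have := D.amb.finite_GF s₂.K
  have := Fintype.ofFinite (GF F s₁.K)
  have := Fintype.ofFinite (GF F s₂.K)
  have hC : cj (x : Y) s₁.K = s₂.K := by
    rw [cen_sub hs hs₁ h1, cen_sub hs hs₂ h2, cj_inf', cj_eq_of_mem x.2.1]
    refine congrArg _ (Subgroup.ext fun z => mem_cj.trans ⟨fun e => ?_, fun e => ?_⟩)
    · rintro _ ⟨a, h4, rfl⟩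
      have h5 := e _ ⟨x⁻¹ * a * x, (h3 _).2 (by simpa [mul_assoc] using h4), rfl⟩
      simpa [mul_assoc] using congrArg (MulAut.conj (x : Y)) h5
    · rintro _ ⟨a, h4, rfl⟩
      simpa [mul_assoc] using congrArg (MulAut.conj (x : Y)⁻¹) (e _ ⟨_, (h3 _).1 h4, rfl⟩)
  let e := cjE x.2.2 hC
  refine ⟨GF F s₁.K, inferInstance, inferInstance, s₁.ι, s₂.ι.comp e.toMonoidHom, s₁.ι_injective, hs₁.range, fun _ => rfl, by_contra fun h4 => hx ?_⟩
  have h5 := two_le_sz D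
  have h6 : bd (nb s.E) (sz D + Nat.card s.E.W) < r := (bd_mono s.nb_le le_rfl).trans_lt (hu.bd_nb (i := 2) (by
    have := s.card_le.trans hu.card_le
    nlinarith) (by norm_num))
  obtain ⟨ψ, hψ, h7, h8⟩ := exists_common (OddOrderCharacters.VChar.gen_isClassFunction ((hu.sub s).big_GF.rs_gen hQ₁ hg
    ((bd_mono le_rfl (Nat.le_add_right _ _)).trans_lt h6) s₁.ι_injective hs₁.range)) h4
  have hψ' := isIrr_comp e.symm.toMonoidHom e.symm.surjective hψ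
  have e4 : (ψ ∘ e.symm.toMonoidHom) ∘ e = ψ := funext fun m => congrArg ψ (e.symm_apply_apply m)
  obtain ⟨u₁, c₁, h9, h10⟩ := br_gen hB o hs.qs hu.ne hs₁ hg h6 hl hψ h7
  obtain ⟨u₂, c₂, h11, h12⟩ := br_gen hB o hs.qs hu.ne hs₂ hg h6 hl hψ' (by
    rw [← Clifford.classInner_comp_mulEquiv e, e4]
    exact mt OddOrderCharacters.VChar.classInner_comm_eq_zero h8)
  obtain ⟨u, c', θ, z₁, hz₁, z₂, hz₂, h13, h14, h15, h16⟩ := has_cj ((ov_sub s).trans (ov_sub s₁)) ((ov_sub s).trans (ov_sub s₂))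
    x.2 hC (s₁.fr (s.fr f)) (s₂.fr (s.fr f)) (e4.symm ▸ h9)
  have h17 := o.trans _ _ _ h12 (o.mon_sub hE hs₂.qs e3 (ih s₂.E j _ (hE.sub hs₂.qs) (o.adm_sub hE hs₂.qs e3)
    (s₂.nr_le.trans_lt (s.nr_lt (e1 ▸ e2))) _ _ hψ' u₂ c₂ u c' h11 h13))
  have h18 : ∀ (s' : Sb s.E) z, z ∈ s'.K → z * s'.y ∈ s.K := fun s' z hz => mul_mem (s'.K_le hz) s'.hy
  obtain ⟨v, hv⟩ : (z₂ * s₂.y * s.y)⁻¹ * x * (z₁ * s₁.y * s.y) ∈ D.NN := by
    refine RL.mem_NN_of_cj (mul_mem (mul_mem (inv_mem (mul_mem (s.K_le (h18 _ _ hz₂)) s.hy)) x.2.1)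
      (mul_mem (s.K_le (h18 _ _ hz₁)) s.hy)) (le_of_eq ?_)
    rw [cj_mul, cj_mul, cj_mul, cj_mul]
    refine (congrArg _ h16).trans ?_
    rw [show s₂.E.T = cj s₂.y (cj s.y D.T) from rfl, ← cj_mul z₂, ← cj_mul (z₂ * _), cj_inv_cj]
  have h19 := mem_K hv (e1 ▸ ht c₁ c' _ (Wm_mem v) (e1 ▸ h10) (e1 ▸ h17)
    (rel_of_lab (lab_sub (lab_sub h14)) (lab_sub (lab_sub h15)) x.2.2 hv) h9.fo)
  have h20 := mul_mem (mul_mem (h18 _ _ hz₂) h19) (inv_mem (h18 _ _ hz₁))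
  exact (mem_C hs.cen).1 (by simpa [mul_assoc] using h20)

end

/-- **the isometry** -/
theorem boxIso (hS : AllD p fun D => BoxSb D) (hC : AllD p fun D => BoxChf D) (hB : AllD p fun D => BoxBR D)
    (D : Datum p ρ F G) [Fintype ↥(GF F G)] : BoxIso D := by
  intro L ok j B h ha ih f r _ P s _ hu hs lam e1 e2 χ hχ hr u c hc ht
  have h1 := ih s.E j _ (h.sub hs.qs) ((ok D j B h ha).adm_sub h hs.qs e1) (s.nr_lt (e1 ▸ e2))
  have h2 := two_le_sz D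
  have h3 := nb_le_sz D
  have hf : Sm r (sz D) (s.rs r P χ) :=
    (hu.big_GF.sm_rs hs.grp (sm_irr hχ hr) hu.bd_one s.ι_injective hs.range).mono (by omega)
  let S : Set (IrrCharacter (GF F s.K)) := {ψ | ∀ u' c', Has (s.fr f) ψ u' c' → L.rel (rts s.E) c c'}
  have h0 : Nat.card (GF F s.K) * (p ^ f.e - 1) ≠ 0 := mul_ne_zero Nat.card_pos.ne'
    (Nat.sub_ne_zero_of_lt (Nat.one_lt_pow f.L.e_pos.ne' (Fact.out : p.Prime).one_lt))
  have h4 : ∀ σ : ℂ ≃+* ℂ, (∀ z : ℂ, z ^ ordCompl[r] (Nat.card (GF F s.K) * (p ^ f.e - 1)) = 1 → σ z = z) →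
      ∀ (m : ℕ) (z : ℂ), ¬ r ∣ m → m ∣ Nat.card (GF F s.K) * (p ^ f.e - 1) → z ^ m = 1 → σ z = z := fun σ hσ m z a b e => by
    obtain ⟨i, hi⟩ := Nat.dvd_ordCompl_of_dvd_not_dvd b a
    exact hσ z (by rw [hi, pow_mul, e, one_pow])
  have h5 : ∀ σ : ℂ ≃+* ℂ, (∀ z : ℂ, z ^ ordCompl[r] (Nat.card (GF F s.K) * (p ^ f.e - 1)) = 1 → σ z = z) →
      ∀ ψ ψ', IsIrrCharacter _ ψ → IsIrrCharacter _ ψ' → ψ' = (fun x => σ (ψ x)) → classInner (s.rs r P χ) ψ ≠ 0 →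
      ∀ u c', Has (s.fr f) ψ u c' → Has (s.fr f) ψ' u c' := fun σ hσ ψ ψ' hψ _ e a u c' b => by
    have h6 := LV.One.inner_gal (s.fr f) σ hψ b
    rwa [← e, show (fun j => Units.map (σ : ℂ →* ℂ) (c' j)) = c' from funext fun i => Units.ext (h4 σ hσ _ _
      ((hC s.E hs.qs).lab _ r _ _ hf (hu.lt (i := 2) (by
        have := s.card_le.trans hu.card_le
        nlinarith) (by norm_num)) ψ hψ a u c' b) ((orderOf_dvd_of_pow_eq_one (pow_of_fx (s.fr f) b.fx)).mul_left _)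
      (congrArg Units.val (congrFun (pow_orderOf_eq_one c') i)))] at h6
  have hg : Sm r (sz D) (blockPart S (s.rs r P χ)) := ⟨bp_gen hf.gen, bp_le.trans hf.nrm, ratR_of_fix (bp_gen hf.gen)
    (Nat.not_dvd_ordCompl hu.prime h0) fun σ hσ => bp_fix (hf.rat.fix hf.gen σ fun m z a b => h4 σ hσ m z a (b.mul_right _))
      fun ψ ψ' e a b => ⟨fun e' u c' h6 => e' u c' (h5 σ hσ _ _ ψ'.2 ψ.2 e b u c' h6), fun e' u c' h6 => e' u c'
        (h5 σ.symm (fun z hz => σ.symm_apply_eq.2 (hσ z hz).symm) _ _ ψ.2 ψ'.2 (by simp [e]) a u c' h6)⟩⟩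
  obtain ⟨ψ, hψ, h6, h7⟩ := exists_common (OddOrderCharacters.VChar.gen_isClassFunction hf.gen) (η := RW (s.fr f) u c) (by
    rw [(hC D h.qs).adj f r P s hu.ne hs 1 χ (sm_irr hχ hr) hu.bd_one]
    exact hc)
  obtain ⟨h8, h9⟩ := iso hu.big_GF hs.grp s.ι_injective hs.range (hg.mono (B' := sz D ^ 2) (by nlinarith))
    (hu.bd_nb le_rfl (by norm_num)) (ort (hS s.E) (hB s.E) ok h ha ih hu hs e1 e2 ht hg fun η hη e => ((bp_ne (S := S) hη).1 e).1)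
    (fun a x e => bp_mul (fun η hη e' => hu.big_GF.rs_ker hs.grp (sm_irr hχ hr) hu.bd_one s.ι_injective hs.range hη e' e) x)
    ((sm_irr hχ hr).mono (by nlinarith)) (classInner_irr_self hχ) ((Nat.lt_succ_self _).trans (hu.lt (i := 14) (by
      calc 32 * (2 * nb D * sz D ^ 2) ^ 3 ≤ sz D ^ 5 * (sz D * sz D ^ 2) ^ 3 := by
            gcongr
            exact Nat.pow_le_pow_left h2 5
        _ = _ := by ring) (by norm_num)))
    (fun e => (bp_ne (S := S) hψ).2 ⟨fun u' c' => h1 _ ψ hψ u c u' c' h7, h6⟩ (by rw [e, classInner_zero_left])) bp_self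
  have h10 : ∀ (ε : ℂ) η, (ε = 1 ∨ ε = -1) → IsIrrCharacter _ η → blockPart S (s.rs r P χ) = ε • η →
      ∃ ε η, IsIrrCharacter _ η ∧ Cor s r P χ ε η ∧ ∀ u' c', Has (s.fr f) η u' c' → L.rel (rts s.E) c c' := fun ε η a hη e => by
    refine ⟨ε, η, hη, ⟨a, fun φ hφ => ?_⟩, ((bp_ne (S := S) (φ := s.rs r P χ) hη).1 ?_).1⟩
    · rw [← classInner_conj_symm, h9 φ hφ, classInner_conj_symm, e, classInner_smul_right]
      rcases a with rfl | rfl <;> simp [Sb.rs]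
    · rw [e, classInner_smul_left, classInner_irr_self hη]
      rcases a with rfl | rfl <;> simp
  exact (isIrr_of_generalized hg.gen h8).elim (fun e => h10 1 _ (.inl rfl) e (one_smul _ _).symm)
    fun e => h10 (-1) _ (.inr rfl) e (by simp)

end Cfsg.Agent.HZ.L.Iso
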