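import Cfsg.Agent.HZ.Gen.Four
import Cfsg.Agent.HZ.Gen.Oth
import Cfsg.Agent.HZ.Gen.Blk

/-!
# HZ/L, the isometry: the part on finite groups (helper4)

* `orth` : orthogonality on the generic elements from orthogonality of the restrictions;
* `iso` : a function on `C(P)` whose restrictions are orthogonal to their conjugates outside `C(P)`.
-/

set_option autoImplicit false
set_option linter.unusedSectionVars false

namespace Cfsg.Agent.HZ.L.Iso

open Cfsg Subgroup Cfsg.Agent.HZ.Gen Cfsg.Agent.Blocks.PPart Cfsg.Agent.OddOrderCharacters.VChar Cfsg.Agent.Characters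
open scoped ComplexConjugate

universe u

variable {H : Type*} [Group H] [Fintype H] {r n B : ℕ} [hr : Fact r.Prime] {K P : Subgroup H} {χ : H → ℂ}
  {L : Type u} [Group L] [Fintype L] {ι : L →* H} {g : L → ℂ}

/-- the `r`-elements of the centre of the centraliser of `b` -/
def zr (r : ℕ) (b : H) : Subgroup H where
  carrier := {z | centralizer {b} ≤ centralizer {z} ∧ ∃ k, z ^ r ^ k = 1}
  one_mem' := ⟨fun c _ => mem_cen.2 (Commute.one_right c), 0, one_pow _⟩
  mul_mem' := fun {x y} ⟨h1, i, h2⟩ ⟨h3, j, h4⟩ => ⟨fun c hc => mem_cen.2 ((mem_cen.1 (h1 hc)).mul_right (mem_cen.1 (h3 hc))), i + j, by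
    rw [(mem_cen.1 (h3 (mem_cen.2 (mem_cen.1 (h1 (mem_cen.2 (Commute.refl b)))).symm))).mul_pow, pow_add, pow_mul, h2, one_pow,
      pow_mul', h4, one_pow, one_mul]⟩
  inv_mem' := fun ⟨h1, i, h2⟩ => ⟨fun c hc => mem_cen.2 (mem_cen.1 (h1 hc)).inv_right, i, by rw [inv_pow, h2, inv_one]⟩

theorem zr_p (b : H) : IsPGroup r (zr r b) := fun z => z.2.2.imp fun _ h => Subtype.ext h

theorem mem_zr {b z : H} (h : centralizer {b} ≤ centralizer {z}) (h' : ∃ k, orderOf z = r ^ k) : z ∈ zr r b :=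
  ⟨h, h'.imp fun _ e => by rw [← e, pow_orderOf_eq_one]⟩

theorem cen_zr {b : H} (h : ∃ k, orderOf b = r ^ k) : centralizer (zr r b : Set H) = centralizer {b} :=
  le_antisymm (centralizer_le (Set.singleton_subset_iff.2 (mem_zr le_rfl h))) fun _ hc _ hz => (mem_cen.1 (hz.1 hc)).symm

open Classical in
/-- **orthogonality on the generic elements** -/
theorem orth (hB : Big H r n) (hn : n < r) {w : H → ℂ} (h : ∀ Q : Subgroup H, IsPGroup r Q → centralizer Q ≤ K →
    (∀ z, centralizer (Q : Set H) ≤ centralizer {z} → (∃ k, orderOf z = r ^ k) → z ∈ Q) →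
    ∃ φ : H → ℂ, (∀ x ∈ centralizer (Q : Set H), ∀ a ∈ Q, Gn r (centralizer Q) (a * x) → φ x = w (a * x)) ∧
      ∑ x with x ∈ centralizer (Q : Set H), φ x = 0) : ∑ x with Gn r K x, w x = 0 := by
  choose π hπ using exists_isPPart (G := H) r
  have h0 : ∀ x b, π x = b ↔ IsPPart r x b := fun x b => ⟨fun e => e ▸ hπ x, isPPart_unique (hπ x)⟩
  have h1 : ∀ m, ∀ b : H, Nat.card (centralizer {b}) = m → (∃ k, orderOf b = r ^ k) → centralizer {b} ≤ K →
      ∑ x with π x = b, w x = 0 := fun m => Nat.strong_induction_on m fun m ih b hm hb hK => by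
    have hQ := zr_p (r := r) b
    obtain ⟨φ, h2, h3⟩ := h _ hQ (cen_zr hb ▸ hK) fun z hz => mem_zr (cen_zr hb ▸ hz)
    have h4 : ∀ a ∈ zr r b, ∀ b', centralizer {a * b'} ≤ centralizer (zr r b : Set H) →
        ∑ x ∈ Finset.univ.filter (· ∈ centralizer (zr r b : Set H)) with π x = b', φ x = ∑ x with π x = a * b', w x := fun a ha b' h4 => by
      refine Finset.sum_bij' (fun x _ => a * x) (fun x _ => a⁻¹ * x) (fun x hx => ?_) (fun x hx => ?_) (by simp) (by simp) fun x hx => ?_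
      all_goals simp only [Finset.mem_filter, Finset.mem_univ, true_and, h0] at hx ⊢
      · exact part_mul hQ hx.1 hx.2 ha
      · have h5 := h4 (mem_cen.2 (part_comm hx (Commute.refl x)))
        exact ⟨mul_mem (hB.ab' hQ (inv_mem ha)) h5, by simpa using part_mul hQ h5 hx (inv_mem ha)⟩
      · exact h2 x hx.1 a ha ((gn_iff (part_mul hQ hx.1 hx.2 ha)).2 h4)
    rw [← Finset.sum_fiberwise _ π, Finset.sum_congr rfl (g := fun b' => if b' ∈ zr r b then ∑ x with π x = b, w x else 0),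
      ← Finset.sum_filter, Finset.sum_const, nsmul_eq_mul] at h3
    · exact (mul_eq_zero.1 h3).resolve_left (Nat.cast_ne_zero.2 (Finset.card_ne_zero.2 ⟨1, by simp⟩))
    intro b' _
    split_ifs with h5
    · simpa using h4 (b * b'⁻¹) (mul_mem (mem_zr le_rfl hb) (inv_mem h5)) b' (by simp [cen_zr hb])
    refine by_contra fun h6 => ?_
    obtain ⟨x, hx, -⟩ := Finset.exists_ne_zero_of_sum_ne_zero h6
    simp only [Finset.mem_filter, Finset.mem_univ, true_and, h0] at hx
    obtain ⟨a, ha, h7⟩ := hB.exists_gn hQ hn hx.1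
    have h8 := part_mul hQ hx.1 hx.2 ha
    have h9 := h7 _ h8
    rw [h4 a ha b' h9] at h6
    rw [cen_zr hb] at h9
    refine h6 (ih _ (hm ▸ (card_le_of_le h9).lt_of_ne fun e => h5 ?_) _ rfl h8.choose_spec.2.2.1 (h9.trans hK))
    exact (mul_mem_cancel_left ha).1 (mem_zr (eq_of_le_of_card_ge h9 e.ge).ge h8.choose_spec.2.2.1)
  rw [← Finset.sum_fiberwise _ π]
  refine Finset.sum_eq_zero fun b _ => by_contra fun h2 => ?_
  obtain ⟨x, hx, -⟩ := Finset.exists_ne_zero_of_sum_ne_zero h2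
  simp only [Finset.mem_filter, Finset.mem_univ, true_and, h0] at hx
  refine h2 (Eq.trans (Finset.sum_congr (Finset.ext fun y => ?_) fun _ _ => rfl) (h1 _ b rfl hx.2.choose_spec.2.2.1 (hx.1 b hx.2)))
  simp only [Finset.mem_filter, Finset.mem_univ, true_and, h0]
  exact and_iff_right_of_imp fun e => (gn_iff e).2 (hx.1 b hx.2)

/-- the orthogonality of the restrictions -/
def Ort (r : ℕ) (P : Subgroup H) (ι : L →* H) (g : L → ℂ) : Prop := ∀ h ∉ centralizer (P : Set H), ∀ Q₁ Q₂ : Subgroup L,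
  IsPGroup r Q₁ → IsPGroup r Q₂ → P ≤ Q₁.map ι → P ≤ Q₂.map ι → (∀ a, a ∈ Q₁.map ι ↔ h * a * h⁻¹ ∈ Q₂.map ι) →
  ∃ (M : Type u) (_ : Group M) (_ : Fintype M) (j₁ j₂ : M →* L), Function.Injective j₁ ∧ j₁.range = centralizer Q₁ ∧
    (∀ m, ι (j₂ m) = h * ι (j₁ m) * h⁻¹) ∧ classInner (rs r Q₁ g ∘ j₁) (rs r Q₂ g ∘ j₂) = 0

variable (hB : Big H r n) (hP : IsPGroup r P) (hι : Function.Injective ι) (hL : ι.range = centralizer P)
  (hg : Sm r B g) (hb : bd n B < r)
include hB hι hg hb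

theorem rs_ext {Q : Subgroup H} (hQ : IsPGroup r Q) {x : L} (hx : ι x ∈ centralizer (Q : Set H)) {a : H} (ha : a ∈ Q)
    (h : Gn r (centralizer Q) (a * ι x)) (hK : Q ≤ ι.range) : rs r (Q.comap ι) g x = Function.extend ι g 0 (a * ι x) := by
  obtain ⟨a, rfl⟩ := hK ha
  have h1 : (centralizer (Q : Set H)).comap ι ≤ centralizer (Q.comap ι : Set L) := fun c hc y hy => hι (by
    rw [map_mul, map_mul]
    exact hc _ hy)
  rw [← map_mul] at h ⊢
  rw [hι.extend_apply, (hB.sub ι hι).rs_eq (hQ.comap_of_injective ι hι) hg hb (h1 hx) ha ((gn_map hι h).mono h1)]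

include hP hL

open Classical in
theorem cross (hO : Ort r P ι g) {h : H} (hh : h ∉ centralizer (P : Set H)) : ∑ x with Gn r (centralizer P) x,
    Function.extend ι g 0 x * conj (if Gn r (centralizer P) (h * x * h⁻¹) then Function.extend ι g 0 (h * x * h⁻¹) else 0) = 0 := by
  let c := (MulAut.conj h).toMonoidHom
  have hc : Function.Injective c := (MulAut.conj h).injective
  refine Eq.trans ?_ (orth (K := centralizer P ⊓ (centralizer (P : Set H)).comap c) hB (by have := two_mul_lt hb; omega)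
    (w := fun x => Function.extend ι g 0 x * conj (Function.extend ι g 0 (h * x * h⁻¹))) fun Q hQ h1 h2 => ?_)
  · simp only [apply_ite conj, map_zero, mul_ite, mul_zero, ← Finset.sum_filter, Finset.filter_filter]
    refine Finset.sum_congr (Finset.filter_congr fun x _ => ?_) fun _ _ => rfl
    obtain ⟨b, hb⟩ := exists_isPPart r x
    rw [gn_iff hb, gn_iff hb, gn_conj hb, le_inf_iff]
    exact and_congr_right' ⟨fun e y hy => e y (mem_cen.1 hy), fun e y hy => e (mem_cen.2 hy)⟩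
  have h3 : ∀ x, c x ∈ centralizer (Q.map c : Set H) ↔ x ∈ centralizer (Q : Set H) := fun x =>
    ⟨fun e y hy => hc (by rw [map_mul, map_mul, e _ (mem_map_of_mem c hy)]), fun e => by
      rintro _ ⟨y, hy, rfl⟩
      rw [← map_mul, ← map_mul, e y hy]⟩
  have h4 : Q ≤ ι.range := hL ▸ fun x hx => (h1 (hB.ab' hQ hx)).1
  have h5 : Q.map c ≤ ι.range := hL ▸ map_le_iff_le_comap.2 fun x hx => (h1 (hB.ab' hQ hx)).2
  obtain ⟨M, _, _, j₁, j₂, h6, h7, h8, h9⟩ := hO h hh (Q.comap ι) ((Q.map c).comap ι) (hQ.comap_of_injective ι hι)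
    ((hQ.map c).comap_of_injective ι hι) (by
      rw [map_comap_eq_self h4]
      exact fun z hz => h2 z (fun y hy => mem_cen.2 ((h1 hy).1 z hz).symm) (ord_of_mem hP hz)) (by
      rw [map_comap_eq_self h5]
      intro z hz
      obtain ⟨z, rfl⟩ := (MulAut.conj h).surjective z
      refine mem_map_of_mem c (h2 z (fun y hy => mem_cen.2 (Commute.of_map hc ((h1 hy).2 _ hz).symm)) ?_)
      rw [← orderOf_injective c hc]
      exact ord_of_mem hP hz) fun a => by
      rw [map_comap_eq_self h4, map_comap_eq_self h5]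
      exact (mem_map_iff_mem hc).symm
  have h10 : ∀ x, x ∈ centralizer (Q : Set H) ↔ ∃ m, ι (j₁ m) = x := fun x => by
    refine ⟨fun hx => ?_, ?_⟩
    · obtain ⟨x, rfl⟩ : x ∈ ι.range := hL ▸ (h1 hx).1
      obtain ⟨m, rfl⟩ : x ∈ j₁.range := h7 ▸ fun y hy => hι (by rw [map_mul, map_mul, hx _ hy])
      exact ⟨m, rfl⟩
    · rintro ⟨m, rfl⟩ y hy
      obtain ⟨y, rfl⟩ := h4 hy
      rw [← map_mul, ← map_mul, (h7 ▸ ⟨m, rfl⟩ : j₁ m ∈ centralizer (Q.comap ι : Set L)) y hy]
  refine ⟨Function.extend (ι.comp j₁) (fun m => rs r (Q.comap ι) g (j₁ m) * conj (rs r ((Q.map c).comap ι) g (j₂ m))) 0,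
    fun x hx a ha h11 => ?_, ?_⟩
  · obtain ⟨m, rfl⟩ := (h10 x).1 hx
    refine ((hι.comp h6).extend_apply _ _ m).trans ?_
    rw [rs_ext hB hι hg hb hQ hx ha h11 h4, rs_ext hB hι hg hb (hQ.map c) (h8 m ▸ (h3 _).2 hx) (mem_map_of_mem c ha) ?_ h5, h8]
    · exact congrArg (fun z => _ * conj (Function.extend ι g 0 z)) (map_mul c a _).symm
    · obtain ⟨b, hb⟩ := exists_isPPart r (a * ι (j₁ m))
      rw [h8, show c a * (h * ι (j₁ m) * h⁻¹) = h * (a * ι (j₁ m)) * h⁻¹ from (map_mul c a _).symm]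
      exact (gn_conj hb h).2 fun y hy => (h3 y).2 (h11 b hb (mem_cen.2 hy))
  · rw [classInner, mul_eq_zero, inv_eq_zero, Nat.cast_eq_zero] at h9
    rw [← h9.resolve_left Nat.card_pos.ne']
    refine (Finset.sum_bij (fun m _ => ι (j₁ m)) (fun m _ => ?_) (fun _ _ _ _ e => h6 (hι e)) (fun x hx => ?_) fun m _ => ?_).symm
    · simpa using (h10 _).2 ⟨m, rfl⟩
    · simpa using (h10 x).1 (Finset.mem_filter.1 hx).2
    · exact Eq.symm ((hι.comp h6).extend_apply _ _ m)

open Classical in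
/-- the induction does not increase the norm -/
theorem ig_le (hO : Ort r P ι g) :
    (classInner (ig r (centralizer P) ι g) (ig r (centralizer P) ι g)).re ≤ (classInner g g).re := by
  have h0 : (Nat.card L : ℂ) ≠ 0 := Nat.cast_ne_zero.2 Nat.card_pos.ne'
  have h1 : ∀ φ : H → ℂ, ∑ x with Gn r (centralizer P) (ι x), φ (ι x) = ∑ x with Gn r (centralizer P) x, φ x := fun φ =>
    Finset.sum_bij (fun x _ => ι x) (by simp) (fun _ _ _ _ e => hι e) (fun y hy => by
      obtain ⟨x, rfl⟩ : y ∈ ι.range := hL ▸ (Finset.mem_filter.1 hy).2.mem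
      exact ⟨x, by simpa using hy, rfl⟩) fun _ _ => rfl
  have h2 : ∀ y, ∑ x with Gn r (centralizer P) (ι x), (if ι x = y then g x else 0) =
      if Gn r (centralizer P) y then Function.extend ι g 0 y else 0 := fun y => by
    rw [← Finset.sum_congr rfl fun x _ => by rw [← hι.extend_apply g 0 x], h1 fun x => if x = y then Function.extend ι g 0 x else 0]
    simp
  have h3 : classInner (ig r (centralizer P) ι g) (ig r (centralizer P) ι g) =
      (Nat.card L : ℂ)⁻¹ * ∑ x with Gn r (centralizer P) (ι x), g x * conj (g x) := by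
    rw [inner_ig fun x y => ig_conj x y]
    refine congrArg _ ?_
    simp only [ig, h2, map_mul, map_inv₀, map_natCast, map_sum, Finset.mul_sum]
    rw [Finset.sum_comm, Finset.sum_congr rfl (g := fun h => if h ∈ ι.range then
      (Nat.card L : ℂ)⁻¹ * ∑ x with Gn r (centralizer P) (ι x), g x * conj (g x) else 0), ← Finset.sum_filter, Finset.sum_const,
      nsmul_eq_mul, ← Nat.card_eq_finsetCard, show Nat.card _ = Nat.card L from Nat.card_congr
        ((Equiv.subtypeEquivRight (by simp)).trans (MonoidHom.ofInjective hι).toEquiv.symm), mul_inv_cancel_left₀ h0]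
    intro h _
    simp only [mul_left_comm _ (Nat.card L : ℂ)⁻¹, ← Finset.mul_sum]
    split_ifs with h4
    · obtain ⟨h, rfl⟩ := h4
      refine congrArg _ (Finset.sum_congr rfl fun x hx => ?_)
      rw [if_pos ((Finset.mem_filter.1 hx).2.conj (hL ▸ ⟨h, rfl⟩)), ← map_inv, ← map_mul, ← map_mul, hι.extend_apply,
        gen_isClassFunction hg.gen]
    · refine mul_eq_zero_of_right _ (Eq.trans ?_ (cross hB hP hι hL hg hb hO (hL ▸ h4)))
      rw [← h1]
      simp only [hι.extend_apply]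
  have h4 : (0 : ℝ) < Nat.card L := Nat.cast_pos.2 Nat.card_pos
  simp only [h3, Complex.mul_conj, Complex.normSq_eq_norm_sq]
  rw [← Complex.ofReal_sum, ← Complex.ofReal_natCast, ← Complex.ofReal_inv, ← Complex.ofReal_mul, Complex.ofReal_re,
    inv_mul_le_iff₀ h4, ← re_inner]
  exact Finset.sum_le_univ_sum_of_nonneg fun _ => sq_nonneg _

/-- **the isometry** -/
theorem iso (hO : Ort r P ι g) (hη : ∀ a x, ι a ∈ P → g (a * x) = g x) (hχ : Sm r B χ) (h1 : classInner χ χ = 1)
    (hb' : 32 * (2 * n * B) ^ 3 < r) (h0 : g ≠ 0) (h2 : classInner g (rs r P χ ∘ ι) = classInner g g) :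
    classInner g g = 1 ∧ ∀ ψ, Sm r B ψ → classInner χ ψ = classInner g (rs r P ψ ∘ ι) := by
  obtain ⟨N, hN⟩ := gen_norm hg.gen
  have hN0 : 1 ≤ N := Nat.pos_of_ne_zero fun e => h0 (funext fun x => by
    have h5 := re_inner g
    rw [hN, e, Nat.cast_zero, Complex.zero_re, mul_zero, Finset.sum_eq_zero_iff_of_nonneg fun _ _ => sq_nonneg _] at h5
    simpa using h5 x (Finset.mem_univ x))
  have hB1 : (1 : ℝ) ≤ B := by simpa [h1] using hχ.nrm
  have hN1 : (N : ℝ) ≤ B := by simpa [hN] using hg.nrm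
  have hn1 : (1 : ℝ) ≤ n := by
    refine Nat.one_le_cast.2 (le_trans ?_ (hB.nor default))
    exact Nat.pos_of_ne_zero FiniteIndex.index_ne_zero
  have hr' : 32 * (2 * (n : ℝ) * B) ^ 3 < r := by exact_mod_cast hb'
  have h3 := ig_le hB hP hι hL hg hb hO
  have h4 := hB.inner_ig_le hP hι hL hη hχ hb
  set Φ := ig r (centralizer P) ι g
  have h5 := part_le Finset.univ Φ χ (re_inner Φ).le
  rw [← classInner, h1, Complex.one_re, mul_one] at h5
  rw [h2] at h4
  rw [hN, Complex.natCast_re] at h3 h4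
  have h6 : N - ‖N - classInner Φ χ‖ ≤ (classInner Φ χ).re := by
    have := Complex.re_le_norm (N - classInner Φ χ)
    rw [Complex.sub_re, Complex.natCast_re] at this
    linarith
  have h7 := Complex.re_le_norm (classInner Φ χ)
  set e := ‖N - classInner Φ χ‖
  have he : 0 ≤ e := norm_nonneg _
  obtain rfl : N = 1 := by
    by_contra h8
    have h9 : (2 : ℝ) ≤ N := by exact_mod_cast (by omega : 2 ≤ N)
    have h10 : 1 ≤ (n : ℝ) * B := one_le_mul_of_one_le_of_one_le hn1 hB1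
    have h11 : e ^ 2 < (1 / 4) ^ 2 := lt_of_mul_lt_mul_left (a := (r : ℝ)) (by
      have := mul_le_mul_of_nonneg_left hN1 (show 0 ≤ 2 * (n : ℝ) ^ 2 * B by positivity)
      have := mul_le_mul_of_nonneg_left h10 (sq_nonneg ((n : ℝ) * B))
      nlinarith) (Nat.cast_nonneg r)
    have h12 := lt_of_pow_lt_pow_left₀ 2 (by norm_num) h11
    nlinarith
  refine ⟨hN.trans Nat.cast_one, fun ψ hψ => ?_⟩
  obtain ⟨a, ha⟩ := gen_inner hχ.gen hψ.gen
  obtain ⟨b, hb1⟩ := gen_inner hg.gen (hB.rs_gen hP hψ hb hι hL)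
  have h8 := hB.inner_ig_le hP hι hL hη hψ hb
  have h9 : (classInner (χ - Φ) (χ - Φ)).re ≤ 2 * e := by
    rw [Core.classInner_sub_left, Core.classInner_sub_right, Core.classInner_sub_right, h1, ← Core.classInner_conj_symm Φ χ]
    simp only [Complex.sub_re, Complex.one_re, Complex.conj_re]
    rw [Nat.cast_one] at h3 h6
    linarith
  have h10 := (part_le Finset.univ (χ - Φ) ψ ((re_inner _).trans_le (mul_le_mul_of_nonneg_left h9 (Nat.cast_nonneg _)))).trans
    (mul_le_mul_of_nonneg_left hψ.nrm (by positivity))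
  rw [← classInner, Core.classInner_sub_left, ha] at h10
  rw [hb1, hN, Complex.natCast_re, Nat.cast_one, mul_one] at h8
  rw [Nat.cast_one, mul_one] at h4
  obtain ⟨h11, h12⟩ := num_two (n := 2 * n) (a := 2 * e) (x := ‖b - classInner Φ ψ‖) (by linarith) hB1 hr' (by linarith)
    (by nlinarith [mul_pos (pow_pos (one_pos.trans_le hn1) 2) (one_pos.trans_le hB1)])
  rw [ha, hb1, int_eq (lt_of_pow_lt_pow_left₀ 2 (by norm_num) (h10.trans_lt h11)) h12]

end Cfsg.Agent.HZ.L.Iso
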